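import Mathlib.AlgebraicGeometry.OpenImmersion
import Mathlib.AlgebraicGeometry.Morphisms.OpenImmersion
import Mathlib.AlgebraicGeometry.AffineScheme
import Mathlib.AlgebraicGeometry.Morphisms.IsIso
import Mathlib.RingTheory.Ideal.AssociatedPrime.Basic
import Mathlib.RingTheory.IntegralClosure.IsIntegralClosure.Basic
import Mathlib.RingTheory.IntegralClosure.Algebra.Ideal
import Mathlib.Algebra.Module.PID
import Mathlib.RingTheory.Localization.Away.Basic
import Mathlib.RingTheory.Flat.Basic
import Groth.Prelude.Def_QFDual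

/-!
# Associated primes of the relative dualizing module
-/

universe u

open TensorProduct AlgebraicGeometry CategoryTheory

namespace Groth.Agent.QFDualLib

theorem mem_ass_iff {R N : Type*} [CommRing R] [IsNoetherianRing R] [AddCommGroup N] [Module R N]
    {q : Ideal R} : q ∈ associatedPrimes R N ↔ q.IsPrime ∧ ∃ x : N, ∀ r, r ∈ q ↔ r • x = 0 := by
  rw [AssociatedPrimes.mem_iff, isAssociatedPrime_iff]
  refine and_congr_right fun _ => exists_congr fun x => ?_
  simp [SetLike.ext_iff, Submodule.mem_colon_singleton]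

section Open

variable {B' B : Type u} [CommRing B'] [CommRing B] [Algebra B' B]

/-- Locally on the source an open immersion of affine schemes is a localisation. -/
theorem exists_away_bijective
    (hoi : IsOpenImmersion (Spec.map (CommRingCat.ofHom (algebraMap B' B))))
    (q : Ideal B) [q.IsPrime] :
    ∃ f : B', algebraMap B' B f ∉ q ∧
      Function.Bijective (Localization.awayMap (algebraMap B' B) f) := by
  haveI := hoi
  let g := Spec.map (CommRingCat.ofHom (algebraMap B' B))
  have hopen : IsOpen (Set.range (PrimeSpectrum.comap (algebraMap B' B)) : Set (PrimeSpectrum B')) :=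
    g.isOpenEmbedding.isOpen_range
  obtain ⟨_, ⟨f, rfl⟩, hqf, hfsub⟩ := PrimeSpectrum.isTopologicalBasis_basic_opens.exists_subset_of_mem_open
    (Set.mem_range_self (⟨q, inferInstance⟩ : PrimeSpectrum B)) hopen
  refine ⟨f, hqf, ?_⟩
  let μ := Localization.awayMap (algebraMap B' B) f
  have hμ : μ.comp (algebraMap B' (Localization.Away f)) =
      (algebraMap B (Localization.Away (algebraMap B' B f))).comp (algebraMap B' B) :=
    IsLocalization.map_comp _
  haveI h1 : IsOpenImmersion (Spec.map (CommRingCat.ofHom μ) ≫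
      Spec.map (CommRingCat.ofHom (algebraMap B' (Localization.Away f)))) := by
    rw [← Spec.map_comp, ← CommRingCat.ofHom_comp, hμ, CommRingCat.ofHom_comp, Spec.map_comp]
    infer_instance
  haveI h2 : IsOpenImmersion (Spec.map (CommRingCat.ofHom μ)) :=
    IsOpenImmersion.of_comp _ (Spec.map (CommRingCat.ofHom (algebraMap B' (Localization.Away f))))
  have hsurj : Function.Surjective (PrimeSpectrum.comap μ) := by
    intro P
    have hP : PrimeSpectrum.comap (algebraMap B' (Localization.Away f)) P ∈
        PrimeSpectrum.basicOpen f := fun hf =>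
      P.2.ne_top (Ideal.eq_top_of_isUnit_mem _ hf (IsLocalization.Away.algebraMap_isUnit f))
    obtain ⟨p, hp⟩ := hfsub hP
    have hpf : p ∈ (PrimeSpectrum.basicOpen (algebraMap B' B f) : Set (PrimeSpectrum B)) := by
      intro hf
      apply hP
      rw [← hp]
      exact hf
    rw [← PrimeSpectrum.localization_away_comap_range (Localization.Away (algebraMap B' B f))
      (algebraMap B' B f)] at hpf
    obtain ⟨Q, hQ⟩ := hpf
    refine ⟨Q, ?_⟩
    apply PrimeSpectrum.localization_comap_injective (Localization.Away f) (Submonoid.powers f)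
    rw [← PrimeSpectrum.comap_comp_apply, hμ, PrimeSpectrum.comap_comp_apply, hQ, hp]
  haveI : Epi (Spec.map (CommRingCat.ofHom μ)).base := (TopCat.epi_iff_surjective _).2 hsurj
  haveI : IsIso (Spec.map (CommRingCat.ofHom μ)) := IsOpenImmersion.isIso _
  exact isIso_SpecMap_iff.1 (inferInstance : IsIso (Spec.map (CommRingCat.ofHom μ)))

end Open

section Ass

variable {B' B M : Type u} [CommRing B'] [CommRing B] [Algebra B' B] [AddCommGroup M] [Module B' M]

/-- Associated primes of `B ⊗ M` for an open immersion `Spec B → Spec B'`. -/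
theorem associatedPrimes_tensor_eq [IsNoetherianRing B'] [IsNoetherianRing B]
    (hoi : IsOpenImmersion (Spec.map (CommRingCat.ofHom (algebraMap B' B)))) :
    associatedPrimes B (B ⊗[B'] M) =
      {q : Ideal B | q.IsPrime ∧ q.comap (algebraMap B' B) ∈ associatedPrimes B' M} := by
  classical
  -- data near a prime
  have data : ∀ (q : Ideal B) [q.IsPrime], ∃ f : B', algebraMap B' B f ∉ q ∧
      (∀ b : B, ∃ (k : ℕ) (b' : B'), algebraMap B' B f ^ k * b = algebraMap B' B b') ∧
      (∀ m : M, (1 : B) ⊗ₜ[B'] m = 0 → ∃ j : ℕ, f ^ j • m = 0) := by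
    intro q _
    obtain ⟨f, hf, hbij⟩ := exists_away_bijective hoi q
    let Bf' := Localization.Away f
    let Bf := Localization.Away (algebraMap B' B f)
    have hμ : ∀ x : B', Localization.awayMap (algebraMap B' B) f (algebraMap B' Bf' x) =
        algebraMap B Bf (algebraMap B' B x) := fun x => by
      simp [Bf, Bf', Localization.awayMap, IsLocalization.Away.map]
    refine ⟨f, hf, fun b => ?_, fun m hm => ?_⟩
    · obtain ⟨y, hy⟩ := hbij.2 (algebraMap B Bf b)
      obtain ⟨b', ⟨_, k, rfl⟩, rfl⟩ := IsLocalization.exists_mk'_eq (Submonoid.powers f) y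
      have h1 : algebraMap B Bf (algebraMap B' B (f ^ k) * b) = algebraMap B Bf (algebraMap B' B b') := by
        rw [map_mul, ← hy, ← hμ, ← hμ, ← map_mul]
        congr 1
        exact IsLocalization.mk'_spec' Bf' b' (⟨f ^ k, k, rfl⟩ : Submonoid.powers f)
      obtain ⟨⟨_, l, rfl⟩, hl⟩ := (IsLocalization.eq_iff_exists (Submonoid.powers (algebraMap B' B f)) Bf).1 h1
      refine ⟨l + k, f ^ l * b', ?_⟩
      rw [map_mul, map_pow, pow_add, mul_assoc]
      simpa only [map_pow] using hl
    · let θ : B →ₐ[B'] Bf' :=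
        { toRingHom := ((RingEquiv.ofBijective _ hbij).symm.toRingHom).comp (algebraMap B Bf)
          commutes' := fun x => by
            show (RingEquiv.ofBijective _ hbij).symm (algebraMap B Bf (algebraMap B' B x)) = _
            rw [RingEquiv.symm_apply_eq]
            exact (hμ x).symm }
      have h1 := congrArg (TensorProduct.map θ.toLinearMap (LinearMap.id (R := B') (M := M))) hm
      rw [TensorProduct.map_tmul, map_zero, AlgHom.toLinearMap_apply, map_one, LinearMap.id_apply] at h1
      haveI : IsLocalizedModule (Submonoid.powers f) (TensorProduct.mk B' Bf' M 1) :=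
        (isLocalizedModule_iff_isBaseChange (Submonoid.powers f) Bf' _).2
          (TensorProduct.isBaseChange B' M Bf')
      obtain ⟨⟨_, j, rfl⟩, hj⟩ := (IsLocalizedModule.eq_iff_exists (Submonoid.powers f)
        (TensorProduct.mk B' Bf' M 1) (x₁ := m) (x₂ := 0)).1 (by rw [map_zero]; exact h1)
      exact ⟨j, by simpa [Submonoid.smul_def] using hj⟩
  -- uniform exponents
  have unif : ∀ (q' : Ideal B') (P : B' → ℕ → Prop), (∀ x ∈ q', ∃ j, P x j) →
      (∀ x j j', j ≤ j' → P x j → P x j') → P 0 0 →
      (∀ x y j, P x j → P y j → P (x + y) j) → (∀ c x j, P x j → P (c * x) j) →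
      ∃ J, ∀ x ∈ q', P x J := by
    intro q' P h hmono h0 hadd hmul
    obtain ⟨S, hS⟩ := IsNoetherian.noetherian q'
    have hSq : ∀ s ∈ S, s ∈ q' := fun s hs => hS ▸ Submodule.subset_span hs
    choose j hj using h
    refine ⟨∑ s ∈ S.attach, j s.1 (hSq _ s.2), fun x hx => ?_⟩
    rw [← hS] at hx
    induction hx using Submodule.span_induction with
    | mem y hy =>
      exact hmono _ _ _ (Finset.single_le_sum (f := fun s : S => j s.1 (hSq _ s.2))
        (fun _ _ => Nat.zero_le _) (Finset.mem_attach S ⟨y, hy⟩)) (hj y _)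
    | zero => exact hmono _ _ _ (Nat.zero_le _) h0
    | add y z _ _ hy hz => exact hadd _ _ _ hy hz
    | smul c y _ hy => exact hmul _ _ _ hy
  ext q
  simp only [Set.mem_setOf_eq, mem_ass_iff]
  constructor
  · rintro ⟨hqp, x, hann⟩
    haveI := hqp
    obtain ⟨f, hf, hrep, hker⟩ := data q
    obtain ⟨k, m, hm⟩ : ∃ (k : ℕ) (m : M), algebraMap B' B f ^ k • x = (1 : B) ⊗ₜ[B'] m := by
      clear hann
      induction x using TensorProduct.induction_on with
      | zero => exact ⟨0, 0, by simp⟩
      | tmul b m =>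
        obtain ⟨k, b', hb⟩ := hrep b
        refine ⟨k, b' • m, ?_⟩
        rw [TensorProduct.smul_tmul', smul_eq_mul, hb, ← TensorProduct.smul_tmul, Algebra.smul_def,
          mul_one]
      | add y z hy hz =>
        obtain ⟨k, m, hy⟩ := hy
        obtain ⟨l, n, hz⟩ := hz
        refine ⟨k + l, f ^ l • m + f ^ k • n, ?_⟩
        rw [smul_add, TensorProduct.tmul_add, ← TensorProduct.smul_tmul, ← TensorProduct.smul_tmul,
          Algebra.smul_def, mul_one, Algebra.smul_def, mul_one, map_pow, map_pow]
        have h1 : algebraMap B' B f ^ (k + l) • y = algebraMap B' B f ^ l • (algebraMap B' B f ^ k • y) := by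
          rw [← mul_smul, ← pow_add, add_comm]
        have h2 : algebraMap B' B f ^ (k + l) • z = algebraMap B' B f ^ k • (algebraMap B' B f ^ l • z) := by
          rw [← mul_smul, ← pow_add]
        rw [h1, h2, hy, hz]
        simp [TensorProduct.smul_tmul']
    obtain ⟨J, hJ⟩ := unif (q.comap (algebraMap B' B)) (fun b' j => f ^ j • b' • m = 0)
      (fun b' hb' => hker _ (by
        rw [← TensorProduct.smul_tmul, Algebra.smul_def, mul_one]
        calc algebraMap B' B b' ⊗ₜ[B'] m = algebraMap B' B b' • ((1 : B) ⊗ₜ[B'] m) := by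
              rw [TensorProduct.smul_tmul', smul_eq_mul, mul_one]
          _ = 0 := by rw [← hm, ← mul_smul, mul_comm, mul_smul, (hann _).1 hb', smul_zero]))
      (fun x j j' hjj h => by
        obtain ⟨d, rfl⟩ := Nat.exists_eq_add_of_le hjj
        rw [pow_add, mul_comm, mul_smul, h, smul_zero])
      (by simp) (fun x y j h h' => by simp only [add_smul, smul_add, h, h', add_zero])
      (fun c x j h => by rw [mul_smul, smul_comm, h, smul_zero])
    refine ⟨hqp, Ideal.IsPrime.comap _, f ^ J • m, fun b' => ⟨fun hb' => ?_, fun hb' => ?_⟩⟩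
    · rw [smul_comm]
      exact hJ b' hb'
    · have h2 : algebraMap B' B (b' * f ^ J) • ((1 : B) ⊗ₜ[B'] m) = 0 := by
        rw [TensorProduct.smul_tmul', smul_eq_mul, mul_one, ← mul_one (algebraMap B' B _),
          ← Algebra.smul_def, TensorProduct.smul_tmul, mul_smul, hb', TensorProduct.tmul_zero]
      rw [← hm, ← mul_smul, ← hann, map_mul, map_pow, mul_assoc, ← pow_add] at h2
      exact (hqp.mem_or_mem h2).resolve_right fun h3 => hf (hqp.mem_of_pow_mem _ h3)
  · rintro ⟨hqp, hq', m, hann⟩
    haveI := hqp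
    obtain ⟨f, hf, hrep, hker⟩ := data q
    set x := (1 : B) ⊗ₜ[B'] m with hx
    have h0 : ∀ b ∈ q, ∃ K : ℕ, algebraMap B' B f ^ K • b • x = 0 := by
      intro b hb
      obtain ⟨k, b', hk⟩ := hrep b
      refine ⟨k, ?_⟩
      rw [← mul_smul, hk, hx, TensorProduct.smul_tmul', smul_eq_mul, ← Algebra.smul_def,
        TensorProduct.smul_tmul, (hann b').1 (Ideal.mem_comap.2 (hk ▸ q.mul_mem_left _ hb)),
        TensorProduct.tmul_zero]
    obtain ⟨S, hS⟩ := IsNoetherian.noetherian q
    have hSq : ∀ s ∈ S, s ∈ q := fun s hs => hS ▸ Submodule.subset_span hs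
    choose K hK using h0
    let N := ∑ s ∈ S.attach, K s.1 (hSq _ s.2)
    refine ⟨hqp, algebraMap B' B f ^ N • x, fun b => ⟨fun hb => ?_, fun hb => ?_⟩⟩
    · rw [← hS] at hb
      induction hb using Submodule.span_induction with
      | mem y hy =>
        obtain ⟨d, hd⟩ := Nat.exists_eq_add_of_le (Finset.single_le_sum
          (f := fun s : S => K s.1 (hSq _ s.2)) (fun _ _ => Nat.zero_le _) (Finset.mem_attach S ⟨y, hy⟩))
        rw [smul_comm, show N = K y (hSq _ hy) + d from hd, pow_add, mul_comm, mul_smul, hK y _,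
          smul_zero]
      | zero => rw [zero_smul]
      | add y z _ _ hy hz => rw [add_smul, hy, hz, add_zero]
      | smul c y _ hy => rw [smul_eq_mul, mul_smul, hy, smul_zero]
    · rw [← mul_smul] at hb
      obtain ⟨k, b', hk⟩ := hrep (b * algebraMap B' B f ^ N)
      have h1 : (1 : B) ⊗ₜ[B'] (b' • m) = 0 := by
        rw [← TensorProduct.smul_tmul, Algebra.smul_def, ← hk, mul_one]
        calc (algebraMap B' B f ^ k * (b * algebraMap B' B f ^ N)) ⊗ₜ[B'] m
            = (algebraMap B' B f ^ k * (b * algebraMap B' B f ^ N)) • x := by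
              rw [hx, TensorProduct.smul_tmul', smul_eq_mul, mul_one]
          _ = 0 := by rw [mul_smul, hb, smul_zero]
      obtain ⟨j, hj⟩ := hker _ h1
      rw [← mul_smul, ← hann, Ideal.mem_comap, map_mul, map_pow, ← hk, ← mul_assoc, ← pow_add] at hj
      exact (hqp.mem_or_mem ((hqp.mem_or_mem hj).resolve_left
        fun h3 => hf (hqp.mem_of_pow_mem _ h3))).resolve_right
          fun h3 => hf (hqp.mem_of_pow_mem _ h3)

end Ass

section Finite

variable {A B : Type u} [CommRing A] [CommRing B] [Algebra A B]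

/-- A finite domain over a domain has a nonzero functional. -/
theorem exists_functional_ne_zero {R D : Type u} [CommRing R] [IsDomain R] [CommRing D] [IsDomain D]
    [Algebra R D] [Module.Finite R D] (hinj : Function.Injective (algebraMap R D)) :
    ∃ ψ : D →ₗ[R] R, ψ 1 ≠ 0 := by
  classical
  haveI : FaithfulSMul R (FractionRing D) := (faithfulSMul_iff_algebraMap_injective _ _).2 (by
    rw [IsScalarTower.algebraMap_eq R D (FractionRing D)]
    exact (IsFractionRing.injective D (FractionRing D)).comp hinj)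
  letI := FractionRing.liftAlgebra R (FractionRing D)
  obtain ⟨ℓ, hℓ⟩ : ∃ ℓ : Module.Dual (FractionRing R) (FractionRing D), ℓ 1 ≠ 0 := by
    by_contra hne
    push Not at hne
    exact one_ne_zero ((Module.forall_dual_apply_eq_zero_iff (FractionRing R) (1 : FractionRing D)).1 hne)
  let g : D →ₗ[R] FractionRing R :=
    (ℓ.restrictScalars R) ∘ₗ (IsScalarTower.toAlgHom R D (FractionRing D)).toLinearMap
  obtain ⟨S, hS⟩ := (Module.Finite.fg_top (R := R) (M := D))
  obtain ⟨c, hc⟩ := IsLocalization.exist_integer_multiples (nonZeroDivisors R) S (fun i => g i)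
  have hint : ∀ x : D, (c : R) • g x ∈ LinearMap.range (Algebra.linearMap R (FractionRing R)) := by
    intro x
    have hx : x ∈ Submodule.span R (S : Set D) := hS ▸ Submodule.mem_top
    induction hx using Submodule.span_induction with
    | mem y hy => obtain ⟨r, hr⟩ := hc y hy; exact ⟨r, hr⟩
    | zero => rw [map_zero, smul_zero]; exact Submodule.zero_mem _
    | add y z _ _ hy hz => rw [map_add, smul_add]; exact Submodule.add_mem _ hy hz
    | smul r y _ hy => rw [map_smul, smul_comm]; exact Submodule.smul_mem _ _ hy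
  have hiR : Function.Injective (Algebra.linearMap R (FractionRing R)) :=
    IsFractionRing.injective R (FractionRing R)
  refine ⟨(LinearEquiv.ofInjective _ hiR).symm.toLinearMap ∘ₗ
    (((c : R) • g).codRestrict _ hint), fun h0 => ?_⟩
  have h1 := congrArg Subtype.val ((LinearEquiv.symm_apply_eq _).1 h0)
  have h2 : (c : R) • g 1 = 0 := by simpa using h1
  rw [Algebra.smul_def, mul_eq_zero] at h2
  refine h2.elim (fun h3 => ?_) (fun h3 => hℓ ?_)
  · exact nonZeroDivisors.coe_ne_zero c ((map_eq_zero_iff _ hiR).1 h3)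
  · rw [← map_one (algebraMap D (FractionRing D))]
    exact h3

/-- Associated primes of `Hom_A(B, A)`. -/
theorem associatedPrimes_omega [IsNoetherianRing A] [Module.Finite A B] :
    associatedPrimes B (Disc.Omega A B) =
      {q : Ideal B | q.IsPrime ∧ q.comap (algebraMap A B) ∈ associatedPrimes A A} := by
  classical
  haveI : IsNoetherianRing B := isNoetherian_of_isNoetherianRing_of_finite A B |> fun h =>
    isNoetherian_of_tower A h
  ext q
  simp only [Set.mem_setOf_eq, mem_ass_iff]
  constructor
  · rintro ⟨hqp, w, hann⟩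
    haveI := hqp
    obtain ⟨n, g, hg⟩ := Module.Finite.exists_fin (R := A) (M := B)
    have hp : ∀ a : A, algebraMap A B a ∈ q ↔ ∀ i, a * w.toLinearMap (g i) = 0 := by
      intro a
      rw [hann]
      constructor
      · intro h i
        have h1 := congrArg (fun z : Disc.Omega A B => z.toLinearMap (g i)) h
        simpa [← Algebra.smul_def] using h1
      · intro h
        refine Disc.Omega.ext (LinearMap.ext_on_range hg fun i => ?_)
        simpa [← Algebra.smul_def] using h i
    obtain ⟨i, hi⟩ : ∃ i, ∀ a : A, a * w.toLinearMap (g i) = 0 → algebraMap A B a ∈ q := by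
      by_contra hne
      push Not at hne
      choose a ha ha' using hne
      have h1 : algebraMap A B (∏ i, a i) ∈ q := (hp _).2 fun i => by
        obtain ⟨d, hd⟩ := Finset.dvd_prod_of_mem a (Finset.mem_univ i)
        rw [hd, mul_comm (a i) d, mul_assoc, ha, mul_zero]
      rw [map_prod] at h1
      obtain ⟨i, -, hi⟩ := hqp.prod_mem_iff.1 h1
      exact ha' i hi
    exact ⟨hqp, Ideal.IsPrime.comap _, w.toLinearMap (g i),
      fun a => ⟨fun ha => (hp a).1 ha i, fun ha => hi a ha⟩⟩
  · rintro ⟨hqp, -, a₀, ha₀⟩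
    haveI := hqp
    let φ : (A ⧸ q.comap (algebraMap A B)) →ₗ[A] A :=
      Submodule.liftQ _ (LinearMap.toSpanSingleton A A a₀) fun r hr =>
        (LinearMap.mem_ker).2 ((ha₀ r).1 hr)
    have hφ : Function.Injective φ := by
      rw [← LinearMap.ker_eq_bot]
      exact Submodule.ker_liftQ_eq_bot _ _ _ fun r hr => (ha₀ r).2 (LinearMap.mem_ker.1 hr)
    haveI : Module.Finite (A ⧸ q.comap (algebraMap A B)) (B ⧸ q) :=
      Module.Finite.of_restrictScalars_finite A _ _
    have hinj : Function.Injective (algebraMap (A ⧸ q.comap (algebraMap A B)) (B ⧸ q)) :=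
      Ideal.algebraMap_quotient_injective (A := B) (I := q)
    obtain ⟨ψ, hψ⟩ := exists_functional_ne_zero hinj
    let ψA : B →ₗ[A] A :=
      φ ∘ₗ (ψ.restrictScalars A) ∘ₗ (Ideal.Quotient.mkₐ A q).toLinearMap
    refine ⟨hqp, Disc.Omega.mk ψA, fun b => ⟨fun hb => ?_, fun hb => ?_⟩⟩
    · refine Disc.Omega.ext (LinearMap.ext fun x => ?_)
      show φ (ψ (Ideal.Quotient.mk q (b * x))) = 0
      rw [Ideal.Quotient.eq_zero_iff_mem.2 (q.mul_mem_right _ hb), map_zero, map_zero]
    · by_contra hbq
      have h1 : ∀ x : B, ψ (Ideal.Quotient.mk q b * Ideal.Quotient.mk q x) = 0 := fun x => by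
        rw [← map_mul]
        apply hφ
        rw [map_zero]
        exact congrArg (fun z : Disc.Omega A B => z.toLinearMap x) hb
      haveI : Algebra.IsIntegral (A ⧸ q.comap (algebraMap A B)) (B ⧸ q) := inferInstance
      have hne : Ideal.comap (algebraMap (A ⧸ q.comap (algebraMap A B)) (B ⧸ q))
          (Ideal.span {Ideal.Quotient.mk q b}) ≠ ⊥ :=
        Ideal.comap_ne_bot_of_integral_mem (fun h0 => hbq (Ideal.Quotient.eq_zero_iff_mem.1 h0))
          (Ideal.mem_span_singleton_self _) (Algebra.IsIntegral.isIntegral _)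
      obtain ⟨c, hc, hc0⟩ := Submodule.exists_mem_ne_zero_of_ne_bot hne
      obtain ⟨y, hy⟩ := Ideal.mem_span_singleton'.1 (Ideal.mem_comap.1 hc)
      obtain ⟨y, rfl⟩ := Ideal.Quotient.mk_surjective y
      have h2 : ψ (c • (1 : B ⧸ q)) = 0 := by
        rw [Algebra.smul_def, mul_one, ← hy, mul_comm]
        exact h1 y
      rw [map_smul, smul_eq_mul] at h2
      exact hψ ((mul_eq_zero.1 h2).resolve_left hc0)

end Finite

end Groth.Agent.QFDualLib
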