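import Mathlib.RingTheory.Flat.EquationalCriterion
import Mathlib.LinearAlgebra.Dual.BaseChange
import Mathlib.RingTheory.IsTensorProduct
import Mathlib.RingTheory.TensorProduct.Finite
import Groth.Prelude.Def_QFDual

/-!
# Base change of `Hom_A(B', A)`
-/

universe u

open TensorProduct

namespace Groth.Agent.QFDualLib

section Dual

variable {A A₁ V W : Type*} [CommRing A] [CommRing A₁] [Algebra A A₁]
  [AddCommGroup V] [Module A V] [AddCommGroup W] [Module A W] [Module A₁ W] [IsScalarTower A A₁ W]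
  {j : V →ₗ[A] W}

/-- Duals of finitely presented modules commute with flat base change. -/
theorem isBaseChange_toDual_of_flat [Module.Flat A A₁] [Module.FinitePresentation A V]
    (ibc : IsBaseChange A₁ j) : IsBaseChange A₁ ibc.toDual := by
  classical
  let Φ : A₁ ⊗[A] Module.Dual A V →ₗ[A₁] Module.Dual A₁ W := ibc.toDual.liftBaseChange A₁
  refine IsBaseChange.of_equiv (LinearEquiv.ofBijective Φ ⟨?_, ?_⟩) fun f => by simp [Φ]
  · rw [injective_iff_map_eq_zero]
    intro t ht
    obtain ⟨S, hS⟩ := TensorProduct.exists_finset t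
    let F : V →ₗ[A] (S → A) := LinearMap.pi fun i => i.1.2
    let s : (S → A) →ₗ[A] A₁ := Fintype.linearCombination A fun i => i.1.1
    have hsF : s ∘ₗ F = 0 := by
      refine LinearMap.ext fun v => ?_
      have h1 := LinearMap.congr_fun ht (j v)
      rw [hS, map_sum, LinearMap.sum_apply] at h1
      rw [LinearMap.comp_apply, LinearMap.zero_apply]
      show Fintype.linearCombination A (fun i : S => i.1.1) (F v) = 0
      rw [Fintype.linearCombination_apply]
      rw [LinearMap.zero_apply] at h1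
      rw [← h1, ← Finset.sum_coe_sort S]
      refine Finset.sum_congr rfl fun i _ => ?_
      show (i.1.2 v) • i.1.1 = (Φ (i.1.1 ⊗ₜ[A] i.1.2)) (j v)
      simp [Φ, IsBaseChange.toDual_comp_apply, Algebra.smul_def, mul_comm]
    obtain ⟨k, a, y, hya, haF⟩ := Module.Flat.exists_factorization_of_comp_eq_zero_of_free hsF
    have hsi : ∀ i : S, i.1.1 = ∑ l, a (Pi.single i 1) l • y (Finsupp.single l 1) := fun i => by
      have h1 : s (Pi.single i 1) = i.1.1 := by simp [s]
      rw [← h1, hya, LinearMap.comp_apply]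
      conv_lhs => rw [← Finsupp.univ_sum_single (a (Pi.single i 1)), map_sum]
      refine Finset.sum_congr rfl fun l _ => ?_
      rw [← map_smul, Finsupp.smul_single, smul_eq_mul, mul_one]
    have hz : ∀ l, ∑ i : S, a (Pi.single i 1) l • i.1.2 = 0 := fun l => by
      refine LinearMap.ext fun v => ?_
      have h1 := congrArg (fun z : Fin k →₀ A => z l) (LinearMap.congr_fun haF v)
      simp only [LinearMap.comp_apply, LinearMap.zero_apply, Finsupp.zero_apply] at h1
      rw [pi_eq_sum_univ' (F v), map_sum] at h1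
      rw [LinearMap.zero_apply, ← h1, LinearMap.sum_apply, Finsupp.finset_sum_apply]
      refine Finset.sum_congr rfl fun i _ => ?_
      rw [map_smul, Finsupp.smul_apply, LinearMap.smul_apply, smul_eq_mul, smul_eq_mul, mul_comm]
      rfl
    rw [hS, ← Finset.sum_coe_sort S]
    calc ∑ i : S, i.1.1 ⊗ₜ[A] i.1.2
        = ∑ i : S, ∑ l, (a (Pi.single i 1) l • y (Finsupp.single l 1)) ⊗ₜ[A] i.1.2 := by
          refine Finset.sum_congr rfl fun i _ => ?_
          rw [← TensorProduct.sum_tmul, ← hsi i]
      _ = ∑ l, y (Finsupp.single l 1) ⊗ₜ[A] (∑ i : S, a (Pi.single i 1) l • i.1.2) := by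
          rw [Finset.sum_comm]
          refine Finset.sum_congr rfl fun l _ => ?_
          rw [TensorProduct.tmul_sum]
          exact Finset.sum_congr rfl fun i _ => TensorProduct.smul_tmul _ _ _
      _ = 0 := Finset.sum_eq_zero fun l _ => by rw [hz, TensorProduct.tmul_zero]
  · intro g
    obtain ⟨k, h₂, h₃, h23⟩ := Module.Flat.exists_factorization_of_finitePresentation
      (R := A) ((g.restrictScalars A) ∘ₗ j)
    refine ⟨∑ l, h₃ (Finsupp.single l 1) ⊗ₜ[A] ((Finsupp.lapply l) ∘ₗ h₂), ?_⟩
    apply ibc.algHom_ext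
    intro v
    have h1 := LinearMap.congr_fun h23 v
    simp only [LinearMap.comp_apply, LinearMap.restrictScalars_apply] at h1
    rw [h1, map_sum, LinearMap.sum_apply]
    conv_rhs => rw [← Finsupp.univ_sum_single (h₂ v), map_sum]
    refine Finset.sum_congr rfl fun l _ => ?_
    have h2 : (Finsupp.single l (h₂ v l)) = h₂ v l • Finsupp.single l (1 : A) := by simp
    rw [h2, map_smul]
    simp [Φ, IsBaseChange.toDual_comp_apply, Algebra.smul_def, mul_comm]

end Dual

section Omega

open Disc

variable {A B' A₁ B'₁ : Type u} [CommRing A] [CommRing B'] [CommRing A₁] [CommRing B'₁]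
  [Algebra A B'] [Algebra A A₁] [Algebra B' B'₁] [Algebra A₁ B'₁] [Algebra A B'₁]
  [IsScalarTower A A₁ B'₁] [IsScalarTower A B' B'₁]

/-- `A` acts on `Hom_A(B', A)` through `A → B'`. -/
@[reducible] noncomputable def omegaModule (A B' : Type u) [CommRing A] [CommRing B'] [Algebra A B'] :
    Module A (Omega A B') :=
  Module.compHom _ (algebraMap A B')

theorem omegaModule_smul_apply (r : A) (φ : Omega A B') (x : B') :
    ((algebraMap A B' r) • φ).toLinearMap x = r * φ.toLinearMap x := by
  rw [Omega.smul_toLinearMap_apply, ← Algebra.smul_def, map_smul, smul_eq_mul]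

/-- `ω` base changed to `B'₁`, as a `B'₁`-module, is `ω₁`. -/
theorem omegaBC_bijective_self (h : Algebra.IsPushout A A₁ B' B'₁)
    (hdual : IsBaseChange A₁ h.out.toDual) :
    Function.Bijective (QFDual.omegaBC (B₁ := B'₁) h) := by
  letI := omegaModule A B'
  letI := omegaModule A₁ B'₁
  haveI : IsScalarTower A B' (Omega A B') := ⟨fun a b φ => by
    rw [Algebra.smul_def, mul_smul]; rfl⟩
  let e₀ : Omega A B' ≃ₗ[A] Module.Dual A B' :=
    { toFun := Omega.toLinearMap
      invFun := Omega.mk
      map_add' := fun _ _ => rfl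
      map_smul' := fun r φ => LinearMap.ext fun x => omegaModule_smul_apply r φ x
      left_inv := fun _ => rfl
      right_inv := fun _ => rfl }
  let e₁ : Omega A₁ B'₁ ≃ₗ[A₁] Module.Dual A₁ B'₁ :=
    { toFun := Omega.toLinearMap
      invFun := Omega.mk
      map_add' := fun _ _ => rfl
      map_smul' := fun r φ => LinearMap.ext fun x => omegaModule_smul_apply r φ x
      left_inv := fun _ => rfl
      right_inv := fun _ => rfl }
  haveI := h
  let c : B'₁ ⊗[B'] Omega A B' ≃ₗ[A₁] A₁ ⊗[A] Omega A B' :=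
    Algebra.IsPushout.cancelBaseChange A A₁ B' B'₁ (Omega A B')
  let d : A₁ ⊗[A] Omega A B' ≃ₗ[A₁] Omega A₁ B'₁ :=
    (LinearEquiv.baseChange A A₁ _ _ e₀).trans (hdual.equiv.trans e₁.symm)
  have key : ∀ t, QFDual.omegaBC (B₁ := B'₁) h t = (1 : B'₁) ⊗ₜ[B'₁] d (c t) := by
    intro t
    obtain ⟨w, rfl⟩ := c.symm.surjective t
    rw [LinearEquiv.apply_symm_apply]
    induction w using TensorProduct.induction_on with
    | zero => simp
    | add x y hx hy => rw [map_add, map_add, hx, hy, map_add, tmul_add]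
    | tmul s φ =>
      have hc : c.symm (s ⊗ₜ[A] φ) = algebraMap A₁ B'₁ s ⊗ₜ[B'] φ :=
        Algebra.IsPushout.cancelBaseChange_symm_tmul A A₁ B' B'₁ _ s φ
      have hd : d (s ⊗ₜ[A] φ) = (algebraMap A₁ B'₁ s) • QFDual.bcFin h φ := by
        have h1 : d (s ⊗ₜ[A] φ) = e₁.symm (s • h.out.toDual φ.toLinearMap) := by
          simp [d, IsBaseChange.equiv_tmul, e₀]
        rw [h1, map_smul]
        rfl
      rw [hc, QFDual.omegaBC_tmul, hd, ← TensorProduct.smul_tmul, smul_eq_mul, mul_one]
  have hl : ⇑(QFDual.omegaBC (B₁ := B'₁) h) =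
      (TensorProduct.lid B'₁ (Omega A₁ B'₁)).symm ∘ (d ∘ c) := by
    funext t
    rw [key]
    rfl
  rw [hl]
  exact (TensorProduct.lid B'₁ _).symm.bijective.comp (d.bijective.comp c.bijective)

/-- Base change of `ω` to any `B'₁`-algebra. -/
theorem omegaBC_bijective {B₁ : Type u} [CommRing B₁] [Algebra B'₁ B₁] [Algebra B' B₁]
    [IsScalarTower B' B'₁ B₁] (h : Algebra.IsPushout A A₁ B' B'₁)
    (hdual : IsBaseChange A₁ h.out.toDual) :
    Function.Bijective (QFDual.omegaBC (B₁ := B₁) h) := by
  let e : B'₁ ⊗[B'] Omega A B' ≃ₗ[B'₁] Omega A₁ B'₁ :=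
    (LinearEquiv.ofBijective _ (omegaBC_bijective_self h hdual)).trans (TensorProduct.lid B'₁ _)
  let E : B₁ ⊗[B'] Omega A B' ≃ₗ[B₁] B₁ ⊗[B'₁] Omega A₁ B'₁ :=
    (AlgebraTensorModule.cancelBaseChange B' B'₁ B₁ B₁ (Omega A B')).symm.trans
      (AlgebraTensorModule.congr (LinearEquiv.refl B₁ B₁) e)
  have : ⇑(QFDual.omegaBC (B₁ := B₁) h) = E := by
    funext t
    induction t using TensorProduct.induction_on with
    | zero => simp
    | add x y hx hy => rw [map_add, map_add, hx, hy]
    | tmul b φ =>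
      simp [E, e]
  rw [this]
  exact E.bijective

theorem isBaseChange_toDual_of_free [Module.Free A B'] [Module.Finite A B']
    (h : Algebra.IsPushout A A₁ B' B'₁) : IsBaseChange A₁ h.out.toDual :=
  h.out.dual

theorem omegaBC_bijective_of_flat [IsNoetherianRing A] [Module.Finite A B'] [Module.Flat A A₁]
    {B₁ : Type u} [CommRing B₁] [Algebra B'₁ B₁] [Algebra B' B₁] [IsScalarTower B' B'₁ B₁]
    (h : Algebra.IsPushout A A₁ B' B'₁) : Function.Bijective (QFDual.omegaBC (B₁ := B₁) h) :=
  haveI : Module.FinitePresentation A B' := Module.finitePresentation_of_finite A B'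
  omegaBC_bijective h (isBaseChange_toDual_of_flat h.out)

end Omega

end Groth.Agent.QFDualLib
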