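import Mathlib.RingTheory.Flat.Basic
import Mathlib.RingTheory.PicardGroup
import Mathlib.RingTheory.LocalRing.Module
import Mathlib.RingTheory.LocalRing.ResidueField.Ideal
import Mathlib.RingTheory.TensorProduct.Free
import Mathlib.RingTheory.Trace.Basic
import Groth.Agent.QFDualLib.Dual

/-!
# Base change of the different
-/

universe u

open TensorProduct

namespace Groth.Agent.QFDualLib

section General

variable {R R' M M' : Type u} [CommRing R] [CommRing R'] [Algebra R R']
  [AddCommGroup M] [Module R M] [AddCommGroup M'] [Module R M'] [Module R' M']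
  [IsScalarTower R R' M'] {f : M →ₗ[R] M'}

theorem map_different_le (hf : IsBaseChange R' f) (τ : M) :
    Ideal.map (algebraMap R R') (QFDual.different R τ) ≤ QFDual.different R' (f τ) := by
  rw [Ideal.map_le_iff_le_comap]
  intro r hr
  rw [Ideal.mem_comap, QFDual.mem_different_iff]
  intro m'
  induction m' using hf.inductionOn with
  | zero => exact ⟨0, by simp⟩
  | tmul m =>
    obtain ⟨c, hc⟩ := (QFDual.mem_different_iff _ _ _).1 hr m
    exact ⟨algebraMap R R' c, by rw [algebraMap_smul, algebraMap_smul, ← map_smul, hc, map_smul]⟩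
  | smul s n hn =>
    obtain ⟨c, hc⟩ := hn
    exact ⟨s * c, by rw [mul_smul, hc, smul_comm]⟩
  | add n n' hn hn' =>
    obtain ⟨c, hc⟩ := hn
    obtain ⟨c', hc'⟩ := hn'
    exact ⟨c + c', by rw [add_smul, hc, hc', smul_add]⟩

/-- The map `M' → R' ⊗ M/Rτ`. -/
theorem tmul_mk_eq_zero (hf : IsBaseChange R' f) (τ : M) {r' : R'}
    (hr' : r' ∈ QFDual.different R' (f τ)) (m : M) :
    r' ⊗ₜ[R] (Submodule.Quotient.mk m : M ⧸ (R ∙ τ)) = 0 := by
  let π : M' →ₗ[R'] R' ⊗[R] (M ⧸ (R ∙ τ)) :=
    hf.lift ((TensorProduct.mk R R' (M ⧸ (R ∙ τ)) 1) ∘ₗ (R ∙ τ).mkQ)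
  have hπ : ∀ x, π (f x) = 1 ⊗ₜ[R] (Submodule.Quotient.mk x) := fun x => hf.lift_eq _ x
  obtain ⟨c, hc⟩ := (QFDual.mem_different_iff _ _ _).1 hr' (f m)
  have h1 := congrArg π hc
  rw [map_smul, map_smul, hπ, hπ,
    (Submodule.Quotient.mk_eq_zero _).2 (Submodule.mem_span_singleton_self τ), tmul_zero, smul_zero,
    smul_tmul', smul_eq_mul, mul_one] at h1
  exact h1.symm

theorem different_le_map_of_flat [Module.Flat R R'] [Module.Finite R M] (hf : IsBaseChange R' f)
    (τ : M) : QFDual.different R' (f τ) ≤ Ideal.map (algebraMap R R') (QFDual.different R τ) := by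
  intro r' hr'
  obtain ⟨k, g, hg⟩ := Module.Finite.exists_fin (R := R) (M := M)
  let Ψ : R →ₗ[R] (Fin k → M ⧸ (R ∙ τ)) :=
    LinearMap.toSpanSingleton R _ fun i => Submodule.Quotient.mk (g i)
  have hex : Function.Exact (Submodule.subtype (QFDual.different R τ : Submodule R R)) Ψ := by
    intro r
    rw [Submodule.coe_subtype, Subtype.range_coe_subtype, Set.mem_setOf_eq,
      QFDual.mem_different_iff]
    constructor
    · intro h0 m
      have hm : m ∈ Submodule.span R (Set.range g) := hg ▸ Submodule.mem_top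
      induction hm using Submodule.span_induction with
      | mem x hx =>
        obtain ⟨i, rfl⟩ := hx
        have h1 := congr_fun h0 i
        rw [LinearMap.toSpanSingleton_apply, Pi.smul_apply, ← Submodule.Quotient.mk_smul,
          Pi.zero_apply, Submodule.Quotient.mk_eq_zero, Submodule.mem_span_singleton] at h1
        exact h1
      | zero => exact ⟨0, by simp⟩
      | add x y _ _ hx hy =>
        obtain ⟨c, hc⟩ := hx
        obtain ⟨c', hc'⟩ := hy
        exact ⟨c + c', by rw [add_smul, hc, hc', smul_add]⟩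
      | smul a x _ hx =>
        obtain ⟨c, hc⟩ := hx
        exact ⟨a * c, by rw [mul_smul, hc, smul_comm]⟩
    · intro h0
      funext i
      rw [LinearMap.toSpanSingleton_apply, Pi.smul_apply, ← Submodule.Quotient.mk_smul,
        Pi.zero_apply, Submodule.Quotient.mk_eq_zero, Submodule.mem_span_singleton]
      exact h0 (g i)
  have hex' := Module.Flat.lTensor_exact R' hex
  have hker : (Ψ.lTensor R') (r' ⊗ₜ[R] (1 : R)) = 0 := by
    rw [LinearMap.lTensor_tmul, LinearMap.toSpanSingleton_apply, one_smul]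
    apply (TensorProduct.piRight R R R' fun _ : Fin k => M ⧸ (R ∙ τ)).injective
    rw [map_zero, TensorProduct.piRight_apply, TensorProduct.piRightHom_tmul]
    funext i
    exact tmul_mk_eq_zero hf τ hr' (g i)
  obtain ⟨z, hz⟩ := (hex' _).1 hker
  have h1 : r' = TensorProduct.rid R R' ((Submodule.subtype _).lTensor R' z) := by
    rw [hz, TensorProduct.rid_tmul, one_smul]
  rw [h1]
  clear hz h1
  induction z using TensorProduct.induction_on with
  | zero => simp
  | add x y hx hy => rw [map_add, map_add]; exact Ideal.add_mem _ hx hy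
  | tmul s d =>
    rw [LinearMap.lTensor_tmul, TensorProduct.rid_tmul, Submodule.coe_subtype, Algebra.smul_def]
    exact Ideal.mul_mem_right _ _ (Ideal.mem_map_of_mem _ d.2)

theorem different_le_radical [Module.Finite R M] (hf : IsBaseChange R' f) (τ : M) :
    QFDual.different R' (f τ) ≤ (Ideal.map (algebraMap R R') (QFDual.different R τ)).radical := by
  intro r' hr'
  rw [Ideal.radical_eq_sInf, Ideal.mem_sInf]
  rintro P ⟨hle, hP⟩
  by_contra hrP
  haveI := hP
  let q : Ideal R := Ideal.comap (algebraMap R R') P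
  have hq : Module.annihilator R (M ⧸ (R ∙ τ)) ≤ q := by
    intro r hr
    refine Ideal.mem_comap.2 (hle (Ideal.mem_map_of_mem _ ((QFDual.mem_different_iff _ _ _).2 fun m => ?_)))
    have h1 := Module.mem_annihilator.1 hr (Submodule.Quotient.mk m)
    rwa [← Submodule.Quotient.mk_smul, Submodule.Quotient.mk_eq_zero,
      Submodule.mem_span_singleton] at h1
  have hsupp : (⟨q, inferInstance⟩ : PrimeSpectrum R) ∈ Module.support R (M ⧸ (R ∙ τ)) :=
    Module.mem_support_iff_of_finite.2 hq
  rw [Module.mem_support_iff_nontrivial_residueField_tensorProduct] at hsupp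
  change Nontrivial (q.ResidueField ⊗[R] (M ⧸ (R ∙ τ))) at hsupp
  obtain ⟨z, hz⟩ := exists_ne (0 : q.ResidueField ⊗[R] (M ⧸ (R ∙ τ)))
  obtain ⟨ℓ, hℓ⟩ : ∃ ℓ : Module.Dual q.ResidueField (q.ResidueField ⊗[R] (M ⧸ (R ∙ τ))), ℓ z ≠ 0 := by
    by_contra hne
    push Not at hne
    exact hz ((Module.forall_dual_apply_eq_zero_iff q.ResidueField z).1 hne)
  let ρ : q.ResidueField →+* P.ResidueField := Ideal.ResidueField.map q P (algebraMap R R') rfl
  let ρl : q.ResidueField →ₗ[R] P.ResidueField :=
    { toFun := ρ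
      map_add' := map_add ρ
      map_smul' := fun r x => by
        rw [Algebra.smul_def, map_mul, Ideal.ResidueField.map_algebraMap, RingHom.id_apply,
          Algebra.smul_def, IsScalarTower.algebraMap_apply R R' P.ResidueField] }
  let g₀ : M →ₗ[R] P.ResidueField :=
    ρl ∘ₗ (ℓ.restrictScalars R) ∘ₗ (TensorProduct.mk R q.ResidueField (M ⧸ (R ∙ τ)) 1) ∘ₗ (R ∙ τ).mkQ
  let G : M' →ₗ[R'] P.ResidueField := hf.lift g₀
  have hGτ : G (f τ) = 0 := by
    rw [hf.lift_eq]
    show ρ (ℓ ((1 : q.ResidueField) ⊗ₜ[R] (Submodule.Quotient.mk τ))) = 0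
    rw [(Submodule.Quotient.mk_eq_zero _).2 (Submodule.mem_span_singleton_self τ), tmul_zero,
      map_zero, map_zero]
  have hg0 : ∀ m, g₀ m = 0 := by
    intro m
    obtain ⟨c, hc⟩ := (QFDual.mem_different_iff _ _ _).1 hr' (f m)
    have h1 := congrArg G hc
    rw [map_smul, map_smul, hGτ, smul_zero, hf.lift_eq, Algebra.smul_def] at h1
    refine (mul_eq_zero.1 h1.symm).resolve_left fun h0 => hrP ?_
    rwa [Ideal.algebraMap_residueField_eq_zero] at h0
  apply hℓ
  have : ℓ = 0 := by
    refine TensorProduct.AlgebraTensorModule.ext fun x n => ?_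
    obtain ⟨m, rfl⟩ := Submodule.Quotient.mk_surjective _ n
    have h1 : ℓ ((1 : q.ResidueField) ⊗ₜ[R] Submodule.Quotient.mk m) = 0 := by
      apply ρ.injective
      rw [map_zero]
      exact hg0 m
    rw [← mul_one x, ← smul_eq_mul, ← smul_tmul', map_smul, h1, smul_zero, LinearMap.zero_apply]
  rw [this, LinearMap.zero_apply]

/-- For invertible `M` the different is the image of `M^∨` under evaluation at `τ`. -/
theorem different_le_map_of_invertible [Module.Invertible R M] (hf : IsBaseChange R' f) (τ : M) :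
    QFDual.different R' (f τ) ≤ Ideal.map (algebraMap R R') (QFDual.different R τ) := by
  have hmem : ∀ ψ : M →ₗ[R] R, ψ τ ∈ QFDual.different R τ := fun ψ => by
    rw [QFDual.mem_different_iff]
    intro m
    refine ⟨ψ m, ?_⟩
    have h1 := congrArg (fun t => TensorProduct.lid R M ((ψ.rTensor M) t))
      (Module.Invertible.tmul_comm (R := R) (m₁ := m) (m₂ := τ))
    simpa using h1
  intro r' hr'
  obtain ⟨t, ht⟩ := (Module.Invertible.linearEquiv R M).surjective 1
  have key : ∀ t : Module.Dual R M ⊗[R] M,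
      r' * algebraMap R R' (Module.Invertible.linearEquiv R M t) ∈
        Ideal.map (algebraMap R R') (QFDual.different R τ) := by
    intro t
    induction t using TensorProduct.induction_on with
    | zero => simp
    | add x y hx hy => rw [map_add, map_add, mul_add]; exact Ideal.add_mem _ hx hy
    | tmul ψ m =>
      show r' * algebraMap R R' (ψ m) ∈ _
      let ψ' : M' →ₗ[R'] R' := hf.lift (Algebra.linearMap R R' ∘ₗ ψ)
      have hψ' : ∀ x, ψ' (f x) = algebraMap R R' (ψ x) := fun x => hf.lift_eq _ x
      obtain ⟨c, hc⟩ := (QFDual.mem_different_iff _ _ _).1 hr' (f m)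
      rw [← hψ', ← smul_eq_mul, ← map_smul, ← hc, map_smul, hψ', smul_eq_mul]
      exact Ideal.mul_mem_left _ _ (Ideal.mem_map_of_mem _ (hmem ψ))
  have h1 := key t
  rwa [ht, map_one, mul_one] at h1

end General

section Omega

variable {A B A' B' : Type u} [CommRing A] [CommRing B] [CommRing A'] [CommRing B']
  [Algebra A B] [Algebra A A'] [Algebra B B'] [Algebra A' B'] [Algebra A B']
  [IsScalarTower A A' B'] [IsScalarTower A B B'] [Module.Finite A B] [Module.Free A B]
  [Module.Finite A' B'] [Module.Free A' B']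

theorem omega_finite : Module.Finite B (Disc.Omega A B) := by
  letI := omegaModule A B
  haveI : IsScalarTower A B (Disc.Omega A B) := ⟨fun a b φ => by
    rw [Algebra.smul_def, mul_smul]; rfl⟩
  let e₀ : Module.Dual A B ≃ₗ[A] Disc.Omega A B :=
    { toFun := Disc.Omega.mk
      invFun := Disc.Omega.toLinearMap
      map_add' := fun _ _ => rfl
      map_smul' := fun r φ => Disc.Omega.ext (LinearMap.ext fun x =>
        (omegaModule_smul_apply r (Disc.Omega.mk φ) x).symm)
      left_inv := fun _ => rfl
      right_inv := fun _ => rfl }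
  haveI : Module.Finite A (Disc.Omega A B) := Module.Finite.equiv e₀
  exact Module.Finite.of_restrictScalars_finite A B _

theorem bcFin_trace (hB : Algebra.IsPushout A A' B B') :
    QFDual.bcFin hB (Disc.Omega.trace A B) = Disc.Omega.trace A' B' := by
  classical
  refine Disc.Omega.ext (hB.out.algHom_ext _ _ fun b => ?_)
  show (QFDual.bcFin hB (Disc.Omega.trace A B)).toLinearMap (algebraMap B B' b) = _
  rw [QFDual.bcFin_apply_algebraMap]
  show algebraMap A A' (Algebra.trace A B b) = Algebra.trace A' B' (algebraMap B B' b)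
  let v := Module.Free.chooseBasis A B
  let v' : Module.Basis (Module.Free.ChooseBasisIndex A B) A' B' := IsBaseChange.basis v hB.out
  rw [Algebra.trace_eq_matrix_trace v, Algebra.trace_eq_matrix_trace v', Matrix.trace, Matrix.trace,
    map_sum]
  refine Finset.sum_congr rfl fun i _ => ?_
  rw [Matrix.diag_apply, Matrix.diag_apply, Algebra.leftMulMatrix_eq_repr_mul,
    Algebra.leftMulMatrix_eq_repr_mul, IsBaseChange.basis_apply]
  show _ = v'.repr (algebraMap B B' b * algebraMap B B' (v i)) i
  rw [← map_mul]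
  exact (IsBaseChange.basis_repr_comp_apply v hB.out (b * v i) i).symm

/-- `ω ⊗ B' = ω'` as a base change of `B`-modules. -/
theorem exists_isBaseChange_omega (hB : Algebra.IsPushout A A' B B') :
    ∃ (_ : Module B (Disc.Omega A' B')) (_ : IsScalarTower B B' (Disc.Omega A' B'))
      (f : Disc.Omega A B →ₗ[B] Disc.Omega A' B'),
      IsBaseChange B' f ∧ f (Disc.Omega.trace A B) = Disc.Omega.trace A' B' := by
  letI : Module B (Disc.Omega A' B') := Module.compHom _ (algebraMap B B')
  haveI : IsScalarTower B B' (Disc.Omega A' B') := ⟨fun b b' φ => by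
    rw [Algebra.smul_def, mul_smul]; rfl⟩
  let f : Disc.Omega A B →ₗ[B] Disc.Omega A' B' :=
    { toFun := QFDual.bcFin hB
      map_add' := map_add _
      map_smul' := fun b φ => LinearMap.map_smulₛₗ _ b φ }
  refine ⟨inferInstance, inferInstance, f, ?_, bcFin_trace hB⟩
  refine IsBaseChange.of_equiv
    ((LinearEquiv.ofBijective _ (omegaBC_bijective_self hB (isBaseChange_toDual_of_free hB))).trans
      (TensorProduct.lid B' _)) fun φ => ?_
  simp [f]

end Omega

end Groth.Agent.QFDualLib
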