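import Mathlib.RingTheory.Flat.EquationalCriterion
import Mathlib.RingTheory.IntegralClosure.IntegrallyClosed
import Mathlib.RingTheory.IntegralClosure.IsIntegralClosure.Basic
import Mathlib.LinearAlgebra.Matrix.Charpoly.Eigs
import Mathlib.FieldTheory.IsAlgClosed.AlgebraicClosure
import Mathlib.FieldTheory.IsAlgClosed.Spectrum
import Mathlib.RingTheory.Localization.NormTrace
import Mathlib.RingTheory.Localization.BaseChange
import Groth.Prelude.Def_QFDual
import Groth.Prelude.Def_EGA4b
import Groth.Agent.S2195

/-!
# The Dedekind complementary module and the trace form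
-/

universe u

open TensorProduct Polynomial
open scoped Matrix

namespace Groth.Agent.QFDualLib

variable {A K B L : Type u} [CommRing A] [CommRing K] [CommRing B] [CommRing L]
  [Algebra A K] [Algebra A B] [Algebra B L] [Algebra K L] [Algebra A L]
  [IsScalarTower A K L] [IsScalarTower A B L]

theorem injective_algebraMap_AK (h : QFDual.IsDedekindDefined A K B L) :
    Function.Injective (algebraMap A K) :=
  haveI := h.isFractionRing
  IsFractionRing.injective A K

theorem isBaseChange_BL (h : QFDual.IsDedekindDefined A K B L) :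
    IsBaseChange K (IsScalarTower.toAlgHom A B L).toLinearMap := by
  haveI := h.isFractionRing
  haveI : IsLocalizedModule (nonZeroDivisors A) (IsScalarTower.toAlgHom A B L).toLinearMap :=
    isLocalizedModule_iff_isLocalization.2 h.isLocalization
  exact IsLocalizedModule.isBaseChange (nonZeroDivisors A) K _

theorem exists_finBasis (h : QFDual.IsDedekindDefined A K B L) :
    ∃ n : ℕ, Nonempty (Module.Basis (Fin n) K L) :=
  haveI := h.free
  haveI := h.finiteKL
  ⟨_, ⟨(Module.Free.chooseBasis K L).reindex (Fintype.equivFin _)⟩⟩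

theorem trace_bijective (h : QFDual.IsDedekindDefined A K B L) :
    (∀ Φ : L →ₗ[K] K, ∃ x : L, ∀ y, Algebra.trace K L (x * y) = Φ y) ∧
      ∀ x : L, (∀ y, Algebra.trace K L (x * y) = 0) → x = 0 := by
  classical
  obtain ⟨n, ⟨b⟩⟩ := exists_finBasis h
  have hT : IsUnit (Algebra.traceMatrix K b).det := (Groth.Agent.S2195.result b).1 h.etale
  have hsum : ∀ (c : Fin n → K) (j : Fin n),
      Algebra.trace K L ((∑ i, c i • b i) * b j) = (Algebra.traceMatrix K b *ᵥ c) j := by
    intro c j
    rw [Finset.sum_mul, map_sum]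
    simp only [Matrix.mulVec, dotProduct]
    refine Finset.sum_congr rfl fun i _ => ?_
    rw [Algebra.traceMatrix_apply, Algebra.traceForm_apply, smul_mul_assoc, map_smul, smul_eq_mul,
      mul_comm, mul_comm (b i) (b j)]
  constructor
  · intro Φ
    refine ⟨∑ i, ((Algebra.traceMatrix K b)⁻¹ *ᵥ fun j => Φ (b j)) i • b i, fun y => ?_⟩
    have : (Algebra.trace K L) ∘ₗ (LinearMap.mulLeft K
        (∑ i, ((Algebra.traceMatrix K b)⁻¹ *ᵥ fun j => Φ (b j)) i • b i)) = Φ := by
      refine b.ext fun j => ?_
      rw [LinearMap.comp_apply, LinearMap.mulLeft_apply, hsum, Matrix.mulVec_mulVec,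
        Matrix.mul_nonsing_inv _ hT, Matrix.one_mulVec]
    exact LinearMap.congr_fun this y
  · intro x hx
    have h1 : Algebra.traceMatrix K b *ᵥ (fun i => b.repr x i) = 0 := by
      funext j
      rw [← hsum, b.sum_repr, hx]
      rfl
    have h2 : (fun i => b.repr x i) = 0 := by
      have h3 := congrArg ((Algebra.traceMatrix K b)⁻¹ *ᵥ ·) h1
      simp only [Matrix.mulVec_mulVec, Matrix.nonsing_inv_mul _ hT, Matrix.one_mulVec,
        Matrix.mulVec_zero] at h3
      exact h3
    exact b.ext_elem fun i => by rw [map_zero]; exact congr_fun h2 i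

/-- The complementary module is `ω`. -/
theorem exists_complementary_equiv (h : QFDual.IsDedekindDefined A K B L) :
    ∃ e : QFDual.complementary A K B L ≃ₗ[B] Disc.Omega A B,
      ∀ (x : QFDual.complementary A K B L) (b : B),
        algebraMap A K ((e x).toLinearMap b) = Algebra.trace K L ((x : L) * algebraMap B L b) := by
  have hinj : Function.Injective (Algebra.linearMap A K) := injective_algebraMap_AK h
  have hbc := isBaseChange_BL h
  let g : QFDual.complementary A K B L → (B →ₗ[A] K) := fun x =>
    ((Algebra.trace K L).restrictScalars A) ∘ₗ (LinearMap.mulLeft A (x : L)) ∘ₗ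
      (IsScalarTower.toAlgHom A B L).toLinearMap
  have hg : ∀ x b, g x b = Algebra.trace K L ((x : L) * algebraMap B L b) := fun x b => rfl
  let φ : QFDual.complementary A K B L → Disc.Omega A B := fun x =>
    Disc.Omega.mk ((LinearEquiv.ofInjective _ hinj).symm.toLinearMap ∘ₗ
      (g x).codRestrict (LinearMap.range (Algebra.linearMap A K)) fun b => by
        obtain ⟨a, ha⟩ := x.2 b
        exact ⟨a, ha⟩)
  have hφ : ∀ x b, algebraMap A K ((φ x).toLinearMap b) = g x b := fun x b => by
    have h1 := congrArg Subtype.val ((LinearEquiv.ofInjective _ hinj).apply_symm_apply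
      ((g x).codRestrict (LinearMap.range (Algebra.linearMap A K)) (fun b => by
        obtain ⟨a, ha⟩ := x.2 b
        exact ⟨a, ha⟩) b))
    exact h1
  let f : QFDual.complementary A K B L →ₗ[B] Disc.Omega A B :=
    { toFun := φ
      map_add' := fun x y => by
        refine Disc.Omega.ext (LinearMap.ext fun b => injective_algebraMap_AK h ?_)
        rw [Disc.Omega.add_toLinearMap, LinearMap.add_apply, map_add, hφ, hφ, hφ, hg, hg, hg,
          Submodule.coe_add, add_mul, map_add]
      map_smul' := fun c x => by
        refine Disc.Omega.ext (LinearMap.ext fun b => injective_algebraMap_AK h ?_)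
        rw [RingHom.id_apply, Disc.Omega.smul_toLinearMap_apply, hφ, hφ, hg, hg, SetLike.val_smul,
          Algebra.smul_def, map_mul (algebraMap B L)]
        congr 1
        ring }
  have hinjf : Function.Injective f := by
    rw [injective_iff_map_eq_zero]
    intro x hx
    refine Subtype.ext ((trace_bijective h).2 _ fun y => ?_)
    induction y using hbc.inductionOn with
    | zero => simp
    | tmul b =>
      have h1 := hφ x b
      rw [show φ x = 0 from hx] at h1
      simpa [hg] using h1.symm
    | smul a w hw => rw [mul_smul_comm, map_smul, hw, smul_zero]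
    | add w w' hw hw' => rw [mul_add, map_add, hw, hw', add_zero]
  have hsurjf : Function.Surjective f := by
    intro ψ
    let Φ : L →ₗ[K] K := hbc.lift (Algebra.linearMap A K ∘ₗ ψ.toLinearMap)
    obtain ⟨x, hx⟩ := (trace_bijective h).1 Φ
    have hΦ : ∀ b, Φ (algebraMap B L b) = algebraMap A K (ψ.toLinearMap b) := fun b =>
      hbc.lift_eq _ b
    have hmem : x ∈ QFDual.complementary A K B L := fun b =>
      ⟨ψ.toLinearMap b, by rw [hx, hΦ]⟩
    refine ⟨⟨x, hmem⟩, Disc.Omega.ext (LinearMap.ext fun b => injective_algebraMap_AK h ?_)⟩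
    show algebraMap A K ((φ ⟨x, hmem⟩).toLinearMap b) = _
    rw [hφ, hg, hx, hΦ]
  exact ⟨LinearEquiv.ofBijective f ⟨hinjf, hsurjf⟩, fun x b => (hφ x b).trans (hg x b)⟩

/-- Flat case: traces are integral. -/
theorem trace_mem_range_of_flat (h : QFDual.IsDedekindDefined A K B L) [Module.Flat A B] (b : B) :
    Algebra.trace K L (algebraMap B L b) ∈ (algebraMap A K).range := by
  classical
  haveI := h.isNoetherianRing
  haveI := h.finite
  haveI := h.free
  haveI := h.finiteKL
  haveI : Module.FinitePresentation A B := Module.finitePresentation_of_finite A B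
  haveI : Module.Projective A B := Module.Flat.projective_of_finitePresentation
  obtain ⟨n, π, hπ⟩ := Module.Finite.exists_fin' A B
  obtain ⟨i, hi⟩ := Module.projective_lifting_property π LinearMap.id hπ
  have hbc := isBaseChange_BL h
  let iK : L →ₗ[K] (Fin n → K) := hbc.lift ((Algebra.linearMap A K).compLeft (Fin n) ∘ₗ i)
  let πK : (Fin n → K) →ₗ[K] L :=
    (Pi.basisFun K (Fin n)).constr K fun j => algebraMap B L (π (Pi.single j 1))
  have hiK : ∀ x, iK (algebraMap B L x) = fun j => algebraMap A K (i x j) := fun x =>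
    hbc.lift_eq _ x
  have hid : πK ∘ₗ iK = LinearMap.id := by
    refine hbc.algHom_ext _ _ fun x => ?_
    show πK (iK (algebraMap B L x)) = algebraMap B L x
    rw [hiK]
    conv_rhs => rw [← LinearMap.id_apply (R := A) x, ← hi, LinearMap.comp_apply, pi_eq_sum_univ' (i x),
      map_sum, map_sum]
    rw [Module.Basis.constr_apply_fintype]
    refine Finset.sum_congr rfl fun j _ => ?_
    rw [Pi.basisFun_equivFun, LinearEquiv.refl_apply, map_smul, algebraMap_smul,
      Algebra.smul_def, Algebra.smul_def, map_mul, ← IsScalarTower.algebraMap_apply]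
  set m : L →ₗ[K] L := Algebra.lmul K L (algebraMap B L b) with hm
  refine ⟨∑ j, i (b * π (Pi.single j 1)) j, ?_⟩
  have h1 : LinearMap.trace K L m = LinearMap.trace K (Fin n → K) (iK ∘ₗ (m ∘ₗ πK)) := by
    rw [LinearMap.trace_comp_comm', LinearMap.comp_assoc, hid, LinearMap.comp_id]
  rw [Algebra.trace_apply, ← hm, h1, LinearMap.trace_eq_matrix_trace K (Pi.basisFun K (Fin n)),
    Matrix.trace, map_sum]
  refine Finset.sum_congr rfl fun j _ => ?_
  rw [Matrix.diag_apply, LinearMap.toMatrix_apply, Pi.basisFun_repr, LinearMap.comp_apply,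
    LinearMap.comp_apply, Module.Basis.constr_basis]
  show _ = iK (algebraMap B L b * algebraMap B L (π (Pi.single j 1))) j
  rw [← map_mul, hiK]

/-- Normal case: traces are integral. -/
theorem trace_mem_range_of_normal (h : QFDual.IsDedekindDefined A K B L)
    (hA : EGA4.IsNormalRing A) (b : B) :
    Algebra.trace K L (algebraMap B L b) ∈ (algebraMap A K).range := by
  classical
  haveI := h.isFractionRing
  haveI := h.finite
  haveI := h.free
  haveI := h.finiteKL
  set x := Algebra.trace K L (algebraMap B L b) with hx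
  obtain ⟨q, hq, hqb⟩ := (IsIntegral.of_finite A b).map (IsScalarTower.toAlgHom A B L)
  obtain ⟨n, ⟨bs⟩⟩ := exists_finBasis h
  set M := Algebra.leftMulMatrix bs (algebraMap B L b) with hM
  have hxM : x = M.trace := Algebra.trace_eq_matrix_trace bs _
  obtain ⟨a₀, s₀, hxas⟩ := IsLocalization.exists_mk'_eq (nonZeroDivisors A) x
  let J : Ideal A :=
    { carrier := {r | algebraMap A K r * x ∈ (algebraMap A K).range}
      add_mem' := fun {r r'} hr hr' => by
        simp only [Set.mem_setOf_eq, map_add, add_mul]
        exact Subring.add_mem _ hr hr'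
      zero_mem' := by simp
      smul_mem' := fun c r hr => by
        simp only [Set.mem_setOf_eq, smul_eq_mul, map_mul, mul_assoc]
        exact Subring.mul_mem _ ⟨c, rfl⟩ hr }
  suffices hJ : J = ⊤ by
    have h1 : (1 : A) ∈ J := by rw [hJ]; exact Submodule.mem_top
    replace h1 : algebraMap A K 1 * x ∈ (algebraMap A K).range := h1
    simpa using h1
  by_contra hJ
  obtain ⟨p, hp, hJp⟩ := Ideal.exists_le_maximal J hJ
  haveI := (hA p).1
  haveI := (hA p).2
  let Ap := Localization.AtPrime p
  let F := FractionRing Ap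
  let θ₀ : A →+* F := (algebraMap Ap F).comp (algebraMap A Ap)
  have hunit : ∀ y : nonZeroDivisors A, IsUnit (θ₀ y) := fun y => by
    refine Ne.isUnit fun h0 => ?_
    have h1 : algebraMap A Ap (y : A) = 0 := by
      apply IsFractionRing.injective Ap F
      rw [map_zero]
      exact h0
    obtain ⟨t, ht⟩ := (IsLocalization.map_eq_zero_iff p.primeCompl Ap _).1 h1
    have : (t : A) = 0 := (mem_nonZeroDivisors_iff_right.1 y.2) _ ht
    exact t.2 (this ▸ p.zero_mem)
  let ψ₀ : K →+* F := IsLocalization.lift hunit
  let ψ : K →+* AlgebraicClosure F := (algebraMap F (AlgebraicClosure F)).comp ψ₀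
  let θ : A →+* AlgebraicClosure F := ψ.comp (algebraMap A K)
  let r : L →+* Matrix (Fin n) (Fin n) (AlgebraicClosure F) :=
    ψ.mapMatrix.comp (Algebra.leftMulMatrix bs).toRingHom
  have hrθ : r.comp (algebraMap A L) =
      (algebraMap (AlgebraicClosure F) (Matrix (Fin n) (Fin n) (AlgebraicClosure F))).comp θ := by
    refine RingHom.ext fun a => ?_
    have h1 : Algebra.leftMulMatrix bs (algebraMap A L a) =
        algebraMap K _ (algebraMap A K a) := by
      rw [IsScalarTower.algebraMap_apply A K L, AlgHom.commutes]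
    show (Algebra.leftMulMatrix bs (algebraMap A L a)).map ψ = _
    rw [h1]
    simp only [Matrix.algebraMap_eq_diagonal, Matrix.diagonal_map (map_zero ψ), RingHom.comp_apply]
    rfl
  have hq0 : Polynomial.aeval (M.map ψ) (q.map θ) = 0 := by
    have h1 := congrArg r hqb
    rw [map_zero, Polynomial.hom_eval₂] at h1
    rw [Polynomial.aeval_def, Polynomial.eval₂_map, ← hrθ]
    exact h1
  have hroots : ∀ μ ∈ (M.map ψ).charpoly.roots, IsIntegral Ap μ := by
    intro μ hμ
    have hspec : μ ∈ spectrum (AlgebraicClosure F) (M.map ψ) :=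
      Matrix.mem_spectrum_iff_isRoot_charpoly.2 (Polynomial.mem_roots'.1 hμ).2
    have h1 := spectrum.subset_polynomial_aeval (M.map ψ) (q.map θ) ⟨μ, hspec, rfl⟩
    rw [hq0] at h1
    have h2 : (q.map θ).eval μ = 0 := by
      by_contra hne
      apply h1
      show IsUnit _
      rw [sub_zero]
      exact (Ne.isUnit hne).map _
    refine ⟨q.map (algebraMap A Ap), hq.map _, ?_⟩
    rw [Polynomial.eval₂_map]
    rw [Polynomial.eval_map] at h2
    have hθ : (algebraMap Ap (AlgebraicClosure F)).comp (algebraMap A Ap) = θ := by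
      refine RingHom.ext fun a => ?_
      show algebraMap Ap (AlgebraicClosure F) (algebraMap A Ap a) = ψ (algebraMap A K a)
      simp [ψ, ψ₀, θ₀, IsScalarTower.algebraMap_apply Ap F (AlgebraicClosure F)]
    rw [hθ]
    exact h2
  have hint : IsIntegral Ap (algebraMap F (AlgebraicClosure F) (ψ₀ x)) := by
    have h1 : (M.map ψ).trace = ψ x := by
      rw [hxM]
      exact (AddMonoidHom.map_trace ψ.toAddMonoidHom M).symm
    show IsIntegral Ap (ψ x)
    rw [← h1, Matrix.trace_eq_sum_roots_charpoly]
    exact IsIntegral.multiset_sum hroots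
  rw [isIntegral_algebraMap_iff (FaithfulSMul.algebraMap_injective F (AlgebraicClosure F))] at hint
  obtain ⟨c, hc⟩ := IsIntegrallyClosed.isIntegral_iff.1 hint
  obtain ⟨a, s, hcas⟩ := IsLocalization.exists_mk'_eq p.primeCompl c
  -- `x = a / s` near `p`
  have h1 : algebraMap A Ap (a₀ * s) = algebraMap A Ap (a * s₀) := by
    apply IsFractionRing.injective Ap F
    have hx0 : ψ₀ x * θ₀ s₀ = θ₀ a₀ := by
      rw [← hxas, ← IsLocalization.lift_eq (S := K) hunit (s₀ : A), ← map_mul,
        IsLocalization.mk'_spec, IsLocalization.lift_eq]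
    have hc0 : algebraMap Ap F c * θ₀ s = θ₀ a := by
      rw [← hcas]
      show algebraMap Ap F _ * algebraMap Ap F (algebraMap A Ap s) = _
      rw [← map_mul, IsLocalization.mk'_spec]
      rfl
    show θ₀ (a₀ * s) = θ₀ (a * s₀)
    rw [map_mul, map_mul, ← hx0, ← hc0, ← hc]
    ring
  obtain ⟨u, hu⟩ := (IsLocalization.eq_iff_exists p.primeCompl Ap).1 h1
  have h2 : algebraMap A K ((u : A) * s) * x = algebraMap A K ((u : A) * a) := by
    apply (IsLocalization.map_units K s₀).mul_left_inj.1
    rw [mul_assoc, ← hxas, IsLocalization.mk'_spec, ← map_mul, ← map_mul]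
    congr 1
    linear_combination hu
  exact (p.primeCompl.mul_mem u.2 s.2) (hJp (show _ ∈ (algebraMap A K).range from ⟨_, h2.symm⟩))

/-- Free case: the Dedekind different is the different. -/
theorem dedekindDifferent_eq (h : QFDual.IsDedekindDefined A K B L) [Module.Finite A B]
    [Module.Free A B] :
    QFDual.dedekindDifferent A K B L =
      Submodule.map (Algebra.linearMap B L) (QFDual.different B (Disc.Omega.trace A B)) := by
  haveI := h.isFractionRing
  haveI := h.isLocalization
  obtain ⟨e, he⟩ := exists_complementary_equiv h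
  have h1 : (1 : L) ∈ QFDual.complementary A K B L := fun b => by
    rw [one_mul, Algebra.trace_localization A (nonZeroDivisors A)]
    exact ⟨_, rfl⟩
  have he1 : e ⟨1, h1⟩ = Disc.Omega.trace A B := by
    refine Disc.Omega.ext (LinearMap.ext fun b => injective_algebraMap_AK h ?_)
    rw [he, one_mul, Algebra.trace_localization A (nonZeroDivisors A)]
    rfl
  refine le_antisymm ?_ ?_
  · intro z hz
    obtain ⟨r, hr⟩ := hz 1 h1
    rw [mul_one] at hr
    refine ⟨r, (QFDual.mem_different_iff _ _ _).2 fun φ => ?_, hr⟩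
    obtain ⟨c, hc⟩ := hz (e.symm φ) (e.symm φ).2
    refine ⟨c, ?_⟩
    rw [← e.apply_symm_apply φ, ← map_smul, ← he1, ← map_smul]
    congr 1
    refine Subtype.ext ?_
    rw [SetLike.val_smul, SetLike.val_smul, Algebra.smul_def, Algebra.smul_def, mul_one, hr, hc]
  · rintro _ ⟨r, hr, rfl⟩ y hy
    obtain ⟨c, hc⟩ := (QFDual.mem_different_iff _ _ _).1 hr (e ⟨y, hy⟩)
    rw [← he1, ← map_smul, ← map_smul] at hc
    have h2 := congrArg Subtype.val (e.injective hc)
    rw [SetLike.val_smul, SetLike.val_smul, Algebra.smul_def, Algebra.smul_def, mul_one] at h2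
    exact ⟨c, h2⟩

end Groth.Agent.QFDualLib
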